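import Groth.Agent.FormalA.AdicFin
import Mathlib.RingTheory.Henselian
import Mathlib.RingTheory.Spectrum.Prime.Topology

/-!
# Lifting idempotents and clopen subsets along henselian pairs

* `exists_isIdempotentElem`: idempotents of `B / J` lift to `B` if `(B, J)` is henselian.
* `exists_isClopen`: a clopen subset of `V(J)` is the trace of a clopen subset of `Spec B`.
* `isAdicComplete_map`: a finite algebra over a complete Noetherian ring is complete.
-/

set_option autoImplicit false

namespace Groth.Agent.Ega3B.IdemLift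

open PrimeSpectrum Polynomial

theorem exists_isIdempotentElem {B : Type*} [CommRing B] (J : Ideal B) [HenselianRing B J]
    (e : B ⧸ J) (he : IsIdempotentElem e) :
    ∃ b : B, IsIdempotentElem b ∧ Ideal.Quotient.mk J b = e := by
  nontriviality B
  obtain ⟨a, rfl⟩ := Ideal.Quotient.mk_surjective e
  have hmem : a * a - a ∈ J := by
    rw [← Ideal.Quotient.eq_zero_iff_mem, map_sub, map_mul, he.eq, sub_self]
  have hmon : (X ^ 2 - X : B[X]).Monic := by
    refine (monic_X_pow 2).sub_of_left ?_
    rw [degree_X_pow]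
    exact lt_of_le_of_lt degree_X_le (by norm_num)
  have h1 : (X ^ 2 - X : B[X]).eval a ∈ J := by
    simpa [pow_two] using hmem
  have h2 : IsUnit (Ideal.Quotient.mk J ((X ^ 2 - X : B[X]).derivative.eval a)) := by
    have hd : (X ^ 2 - X : B[X]).derivative.eval a = 2 * a - 1 := by
      simp [one_add_one_eq_two]
    rw [hd]
    refine IsUnit.of_mul_eq_one (Ideal.Quotient.mk J (2 * a - 1)) ?_
    rw [← map_mul]
    have : (2 * a - 1) * (2 * a - 1) = 4 * (a * a - a) + 1 := by ring
    rw [this, map_add, map_one, map_mul, Ideal.Quotient.eq_zero_iff_mem.mpr hmem, mul_zero, zero_add]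
  obtain ⟨b, hb, hba⟩ := HenselianRing.is_henselian (I := J) _ hmon a h1 h2
  refine ⟨b, ?_, ?_⟩
  · have : b ^ 2 - b = 0 := by simpa using hb
    rw [IsIdempotentElem, ← pow_two]
    exact sub_eq_zero.mp this
  · exact (Ideal.Quotient.mk_eq_mk_iff_sub_mem b a).mpr hba

theorem exists_isClopen {B : Type*} [CommRing B] (J : Ideal B) [HenselianRing B J]
    (Z Z' : Set (PrimeSpectrum B)) (hZ : IsClosed Z) (hZ' : IsClosed Z') (hd : Disjoint Z Z')
    (hu : Z ∪ Z' = zeroLocus (J : Set B)) :
    ∃ U : Set (PrimeSpectrum B), IsClopen U ∧ U ∩ zeroLocus (J : Set B) = Z := by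
  have hr : Set.range (comap (Ideal.Quotient.mk J)) = zeroLocus (J : Set B) := by
    rw [range_comap_of_surjective _ _ Ideal.Quotient.mk_surjective, Ideal.mk_ker]
  have hcl : IsClopen (comap (Ideal.Quotient.mk J) ⁻¹' Z) := by
    refine ⟨hZ.preimage (continuous_comap _), ?_⟩
    rw [← isClosed_compl_iff]
    convert hZ'.preimage (continuous_comap (Ideal.Quotient.mk J)) using 1
    ext x
    have hx : comap (Ideal.Quotient.mk J) x ∈ Z ∪ Z' := by rw [hu, ← hr]; exact ⟨x, rfl⟩
    constructor
    · intro h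
      exact hx.resolve_left h
    · intro h h'
      exact Set.disjoint_left.mp hd h' h
  obtain ⟨e, he, heq⟩ := exists_idempotent_basicOpen_eq_of_isClopen hcl
  obtain ⟨b, hb, rfl⟩ := exists_isIdempotentElem J e he
  refine ⟨basicOpen b, isClopen_iff.mpr ⟨b, hb, rfl⟩, ?_⟩
  ext x
  constructor
  · rintro ⟨hx, hx'⟩
    rw [← hr] at hx'
    obtain ⟨y, rfl⟩ := hx'
    have : y ∈ (basicOpen (Ideal.Quotient.mk J b) : Set (PrimeSpectrum (B ⧸ J))) := hx
    rw [← heq] at this
    exact this
  · intro hx
    have hx' : x ∈ zeroLocus (J : Set B) := hu ▸ Or.inl hx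
    refine ⟨?_, hx'⟩
    rw [← hr] at hx'
    obtain ⟨y, rfl⟩ := hx'
    have : y ∈ comap (Ideal.Quotient.mk J) ⁻¹' Z := hx
    rw [heq] at this
    exact this

theorem isAdicComplete_map (A B : Type*) [CommRing A] [IsNoetherianRing A] [CommRing B] [Algebra A B]
    [Module.Finite A B] (I : Ideal A) [IsAdicComplete I A] :
    IsAdicComplete (I.map (algebraMap A B)) B := by
  rw [IsAdicComplete.map_algebraMap_iff]
  exact FormalA.AdicFin.isAdicComplete_of_finite I

/-- Over a complete Noetherian ring, for a finite algebra `B`, clopen subsets of the closed fibre lift. -/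
theorem exists_isClopen_of_finite (A B : Type*) [CommRing A] [IsNoetherianRing A] [CommRing B]
    [Algebra A B] [Module.Finite A B] (I : Ideal A) [IsAdicComplete I A]
    (Z Z' : Set (PrimeSpectrum B)) (hZ : IsClosed Z) (hZ' : IsClosed Z') (hd : Disjoint Z Z')
    (hu : Z ∪ Z' = comap (algebraMap A B) ⁻¹' zeroLocus (I : Set A)) :
    ∃ U : Set (PrimeSpectrum B), IsClopen U ∧ U ∩ comap (algebraMap A B) ⁻¹' zeroLocus (I : Set A) = Z := by
  have := isAdicComplete_map A B I
  have h : comap (algebraMap A B) ⁻¹' zeroLocus (I : Set A) =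
      zeroLocus ((I.map (algebraMap A B) : Ideal B) : Set B) := by
    rw [Ideal.map, zeroLocus_span, preimage_comap_zeroLocus]
  rw [h] at hu ⊢
  exact exists_isClopen _ Z Z' hZ hZ' hd hu

end Groth.Agent.Ega3B.IdemLift
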