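import Groth.Agent.Ega3B.LimInv3
import Groth.Agent.S2075

/-!
# Models of proper flat morphisms with an invertible module

* `Mdl.exists_flat`: flatness descends to models (S2075);
* `exists_proper_flat_model(_Spec)`: Noetherian model of `(X → Spec A proper flat of finite presentation, L)`.
-/

set_option autoImplicit false
universe u
open CategoryTheory Limits AlgebraicGeometry TopologicalSpace Opposite

namespace Groth.Agent.Ega3B.LimInv

open Groth.Agent.CalgA.LimFP

variable {I : Type u} [SmallCategory I] {D : I ⥤ Scheme.{u}} {c : Cone D}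
  [IsCofiltered I] [∀ (i j : I) (f : i ⟶ j), IsAffineHom (D.map f)] (hc : IsLimit c)
  [∀ i, CompactSpace (D.obj i)] [∀ i, QuasiSeparatedSpace (D.obj i)]
  {X : Scheme.{u}} {f' : X ⟶ c.pt}

attribute [local instance] Mdl.lfp Mdl.qc Mdl.qs

include hc in
/-- A model of a flat morphism is flat at a later stage. -/
theorem Mdl.exists_flat {i : I} (M : Mdl f' i) [Flat f'] :
    ∃ (j : I) (a : j ⟶ i), Flat (M.bc a).f := by
  have : CompactSpace M.A := QuasiCompact.compactSpace_of_compactSpace M.f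
  have : QuasiSeparatedSpace M.A := quasiSeparatedSpace_of_quasiSeparated M.f
  obtain ⟨j, a, Xi, Yi, fi, gi, pY, pX, h1, h2, h3⟩ := Groth.Agent.S2075.result D c hc i M.f (𝟙 (D.obj i))
    f' (𝟙 c.pt) (c.π.app i) M.p (IsPullback.of_vert_isIso ⟨by simp⟩) M.h
  refine ⟨j, a, ?_⟩
  have h4 : IsPullback pX (fi ≫ gi) M.f (D.map a) := by
    have := h2.paste_vert h1
    simpa using this
  have h5 : IsIso gi := h1.isIso_snd_of_isIso
  have h6 : Flat (h4.isoPullback.inv ≫ (fi ≫ gi)) := inferInstance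
  rwa [h4.isoPullback_inv_snd] at h6

include hc in
/-- A proper flat finitely presented `X` over the limit with an invertible module `L` comes from a stage. -/
theorem exists_proper_flat_model [IsProper f'] [Flat f'] [LocallyOfFinitePresentation f'] {L : X.Modules}
    (hL : PicF.IsInvertible L) :
    ∃ (i : I) (X₀ : Scheme.{u}) (f₀ : X₀ ⟶ D.obj i) (p : X ⟶ X₀) (L₀ : X₀.Modules),
      IsPullback p f' f₀ (c.π.app i) ∧ IsProper f₀ ∧ Flat f₀ ∧ LocallyOfFinitePresentation f₀ ∧
      PicF.IsInvertible L₀ ∧ Nonempty ((Scheme.Modules.pullback p).obj L₀ ≅ L) := by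
  obtain ⟨i, ⟨M⟩⟩ := exists_mdl (D := D) (c := c) hc (f' := f')
  obtain ⟨j, a, h⟩ := Mdl.exists_isProper hc M
  obtain ⟨j', a', h'⟩ := Mdl.exists_flat hc (M.bc a)
  obtain ⟨k, b, L₀, hL₀, e⟩ := Mdl.exists_invertible hc ((M.bc a).bc a') hL
  exact ⟨k, _, (((M.bc a).bc a').bc b).f, (((M.bc a).bc a').bc b).p, L₀, (((M.bc a).bc a').bc b).h, inferInstance,
    inferInstance, inferInstance, hL₀, e⟩

section Spec

open Groth.Agent.Flat2D.SpecFGLimit

/-- A proper flat finitely presented `X` over `Spec A` with an invertible module `L` comes from the spectrum of a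
finitely generated subring. -/
theorem exists_proper_flat_model_Spec (A : Type u) [CommRing A] {X : Scheme.{u}} (f : X ⟶ Spec (CommRingCat.of A))
    [IsProper f] [Flat f] [LocallyOfFinitePresentation f] {L : X.Modules} (hL : PicF.IsInvertible L) :
    ∃ (S : Subalgebra ℤ A) (_ : S.FG) (X₀ : Scheme.{u}) (f₀ : X₀ ⟶ Spec (CommRingCat.of S)) (p : X ⟶ X₀)
      (L₀ : X₀.Modules), IsPullback p f f₀ (Spec.map (CommRingCat.ofHom S.val.toRingHom)) ∧ IsProper f₀ ∧
      Flat f₀ ∧ LocallyOfFinitePresentation f₀ ∧ PicF.IsInvertible L₀ ∧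
      Nonempty ((Scheme.Modules.pullback p).obj L₀ ≅ L) := by
  have i1 : ∀ i, CompactSpace ((specDiagram A).obj i) := fun i => inferInstance
  have i2 : ∀ i, QuasiSeparatedSpace ((specDiagram A).obj i) := fun i => inferInstance
  have i3 : LocallyOfFinitePresentation (Y := (specCone A).pt) f := ‹_›
  have i4 : IsProper (Y := (specCone A).pt) f := ‹_›
  have i5 : Flat (Y := (specCone A).pt) f := ‹_›
  obtain ⟨i, X₀, f₀, p, L₀, h1, h2, h3, h4, h5, h6⟩ := exists_proper_flat_model (D := specDiagram A)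
    (c := specCone A) (isLimitSpecCone A) (f' := f) hL
  exact ⟨i.unop.1, i.unop.2, X₀, f₀, p, L₀, h1, h2, h3, h4, h5, h6⟩

end Spec

end Groth.Agent.Ega3B.LimInv
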