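import Groth.Prelude.Def_Coh

/-!
# Quasi-coherence is local

`isQuasicoherent_of_restrict`: if `M.restrict (f i)` is quasi-coherent for a jointly surjective
family of open immersions `f i : Y i ⟶ X` then `M` is quasi-coherent.
-/

set_option autoImplicit false
universe u

open CategoryTheory Limits AlgebraicGeometry TopologicalSpace

namespace Groth.Agent.Ega3B.QCohLocal

open Scheme.Modules

variable {X : Scheme.{u}}

/-- the inverse of `overEquiv` preserves the structure sheaf -/
noncomputable def overEquivInverseUnit (U : X.Opens) :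
    (overEquiv U).inverse.obj (SheafOfModules.unit.{u} (U : Scheme.{u}).ringCatSheaf) ≅
      SheafOfModules.unit.{u} (X.ringCatSheaf.over U) :=
  U.sheafOfModulesEquivOverInverseUnit X.ringCatSheaf

set_option backward.isDefEq.respectTransparency false in
/-- A presentation of the restriction to `U` gives a presentation of `M.over U`. -/
noncomputable def presentationOver (M : X.Modules) (U : X.Opens)
    (P : (M.restrict U.ι).Presentation) : (SheafOfModules.over M U).Presentation := by
  have e1 : (overEquiv U).inverse.obj (M.restrict U.ι) ≅ SheafOfModules.over M U :=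
    (overEquiv U).inverse.mapIso ((overFunctorEquiv U).symm.app M) ≪≫
      (overEquiv U).unitIso.symm.app (SheafOfModules.over M U)
  exact SheafOfModules.Presentation.ofIsIso.{u, u, u} e1.hom
    (P.map (overEquiv U).inverse (overEquivInverseUnit U).symm)

set_option backward.isDefEq.respectTransparency false in
theorem isQuasicoherent_of_presentation_restrict_opens (M : X.Modules) {ι : Type u}
    (U : ι → X.Opens) (hU : IsOpenCover U) (P : ∀ i, Nonempty (M.restrict (U i).ι).Presentation) :
    Coh.IsQCoh M :=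
  SheafOfModules.QuasicoherentData.isQuasicoherent.{u}
    { I := ι
      X := U
      coversTop := (Opens.coversTop_iff _ _).2 hU
      presentation i := presentationOver M (U i) (P i).some }

/-- restriction to the range of an open immersion is the restriction along the isomorphism. -/
noncomputable def restrictOpensRangeIso {Y : Scheme.{u}} (f : Y ⟶ X) [IsOpenImmersion f]
    (M : X.Modules) : M.restrict f.opensRange.ι ≅ (M.restrict f).restrict f.isoOpensRange.inv :=
  (restrictFunctorCongr (f := f.opensRange.ι) (g := f.isoOpensRange.inv ≫ f)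
    (by simp)).app M ≪≫ (restrictFunctorComp _ _).app M

/-- If there is an open cover on which `M` has a presentation then it is quasi-coherent. -/
theorem isQuasicoherent_of_presentation_restrict (M : X.Modules) {ι : Type u} (Y : ι → Scheme.{u})
    (f : ∀ i, Y i ⟶ X) [∀ i, IsOpenImmersion (f i)] (hf : ∀ x : X, ∃ i y, (f i) y = x)
    (P : ∀ i, Nonempty (M.restrict (f i)).Presentation) :
    Coh.IsQCoh M := by
  refine isQuasicoherent_of_presentation_restrict_opens M (fun i => (f i).opensRange) ?_ fun i => ?_
  · rw [IsOpenCover, eq_top_iff]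
    intro x _
    obtain ⟨i, y, hy⟩ := hf x
    exact Opens.mem_iSup.2 ⟨i, ⟨y, hy⟩⟩
  · exact ⟨SheafOfModules.Presentation.ofIsIso.{u, u, u} (restrictOpensRangeIso (f i) M).inv
      (presentationRestrict (f i).isoOpensRange.inv (P i).some)⟩

/-- Quasi-coherence is local for open covers. -/
theorem isQuasicoherent_of_restrict (M : X.Modules) {ι : Type u} (Y : ι → Scheme.{u})
    (f : ∀ i, Y i ⟶ X) [∀ i, IsOpenImmersion (f i)] (hf : ∀ x : X, ∃ i y, (f i) y = x)
    (P : ∀ i, Coh.IsQCoh (M.restrict (f i))) :
    Coh.IsQCoh M := by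
  have H : ∀ i, ∃ (𝒰 : Scheme.AffineOpenCover.{u} (Y i)),
      ∀ j, Nonempty ((M.restrict (f i)).restrict (𝒰.f j)).Presentation := fun i =>
    exists_affineOpenCover_presentation _
  choose 𝒰 h𝒰 using H
  refine isQuasicoherent_of_presentation_restrict M (ι := Σ i, (𝒰 i).I₀)
    (fun j => Spec ((𝒰 j.1).X j.2)) (fun j => (𝒰 j.1).f j.2 ≫ f j.1) ?_ ?_
  · intro x
    obtain ⟨i, y, hy⟩ := hf x
    obtain ⟨j, z, hz⟩ := (𝒰 i).openCover.exists_eq y
    refine ⟨⟨i, j⟩, z, ?_⟩
    rw [Scheme.Hom.comp_apply, ← hy, ← hz]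
    rfl
  · intro j
    exact ⟨SheafOfModules.Presentation.ofIsIso.{u, u, u}
      ((restrictFunctorComp ((𝒰 j.1).f j.2) (f j.1)).app M).inv (h𝒰 j.1 j.2).some⟩

/-- Quasi-coherence is local: version with opens. -/
theorem isQuasicoherent_of_restrict_opens (M : X.Modules) {ι : Type u} (U : ι → X.Opens)
    (hU : ∀ x : X, ∃ i, x ∈ U i)
    (P : ∀ i, Coh.IsQCoh (M.restrict (U i).ι)) :
    Coh.IsQCoh M :=
  isQuasicoherent_of_restrict M (fun i => (U i : Scheme.{u})) (fun i => (U i).ι)
    (fun x => ⟨(hU x).choose, ⟨x, (hU x).choose_spec⟩, rfl⟩) P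

/-- Quasi-coherence can be checked on affine schemes `Spec R`. -/
theorem isQuasicoherent_of_forall_spec (M : X.Modules)
    (P : ∀ (R : CommRingCat.{u}) (f : Spec R ⟶ X) [IsOpenImmersion f],
      Coh.IsQCoh (M.restrict f)) :
    Coh.IsQCoh M := by
  let 𝒰 := X.affineOpenCover
  refine isQuasicoherent_of_restrict M (ι := 𝒰.I₀) (fun i => Spec (𝒰.X i)) (fun i => 𝒰.f i)
    ?_ (fun i => P _ _)
  intro x
  exact ⟨𝒰.idx x, 𝒰.covers x⟩

/-- An isomorphic module is quasi-coherent. -/
theorem isQuasicoherent_of_iso {M N : X.Modules} (e : M ≅ N)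
    (h : Coh.IsQCoh M) : Coh.IsQCoh N :=
  (SheafOfModules.isQuasicoherent X.ringCatSheaf).prop_of_iso e h

end Groth.Agent.Ega3B.QCohLocal
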