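import Groth.Agent.Ega2.DVRCriterion
import Groth.Agent.Pi1A.PicExtDvr

/-!
# Lifting problems for valuation rings can be solved after an extension

* `exists_lift_of_extension`: for a local homomorphism `A → A'` of a valuation ring to a local domain, a lift
  `Spec A' ⟶ Z` which on the fraction field comes from `Spec K ⟶ Z` gives a lift `Spec A ⟶ Z`;
* `exists_extension_of_etale`: a point of an étale scheme over the fraction field of a discrete valuation ring is
  rational over a larger discrete valuation ring.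
-/

set_option autoImplicit false
universe u

open CategoryTheory CategoryTheory.Limits AlgebraicGeometry IsLocalRing
open Groth.Agent.Ega2.DVRCriterion

namespace Groth.Agent.Ega3B.DvrDescent

/-- Lifting problems for valuation rings can be solved after an extension. -/
theorem exists_lift_of_extension {A A' : Type u} [CommRing A] [IsDomain A] [ValuationRing A] [CommRing A']
    [IsDomain A'] [IsLocalRing A'] (ι : A →+* A') [IsLocalHom ι]
    {K K' : Type u} [Field K] [Algebra A K] [IsFractionRing A K] [Field K'] [Algebra A' K'] [IsFractionRing A' K']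
    (κ : K →+* K') (hκ : κ.comp (algebraMap A K) = (algebraMap A' K').comp ι)
    {Z D : Scheme.{u}} (f : Z ⟶ D) (x : Spec (CommRingCat.of K) ⟶ Z) (y : Spec (CommRingCat.of A) ⟶ D)
    (hxy : x ≫ f = Spec.map (CommRingCat.ofHom (algebraMap A K)) ≫ y)
    (l' : Spec (CommRingCat.of A') ⟶ Z) (h₁ : l' ≫ f = Spec.map (CommRingCat.ofHom ι) ≫ y)
    (h₂ : Spec.map (CommRingCat.ofHom (algebraMap A' K')) ≫ l' = Spec.map (CommRingCat.ofHom κ) ≫ x) :
    ∃ l : Spec (CommRingCat.of A) ⟶ Z, l ≫ f = y ∧
      Spec.map (CommRingCat.ofHom (algebraMap A K)) ≫ l = x := by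
  have hinj : Function.Injective (algebraMap A K) := IsFractionRing.injective A K
  have hinj' : Function.Injective (algebraMap A' K') := IsFractionRing.injective A' K'
  obtain ⟨W, hW, hzW, -⟩ := exists_isAffineOpen_mem_and_subset
    (U := (⊤ : Z.Opens)) (x := l' (closedPoint A')) trivial
  obtain ⟨φ', hφ'⟩ := factor' l' hW hzW
  have hxW : x (closedPoint K) ∈ W := by
    have e1 : x (closedPoint K) = (Spec.map (CommRingCat.ofHom κ) ≫ x) (closedPoint K') := by
      rw [Scheme.Hom.comp_apply]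
      congr 1
      exact Subsingleton.elim (α := Spec (CommRingCat.of K)) _ _
    rw [e1, ← h₂, ← hφ', ← Category.assoc, ← Spec.map_comp]
    exact apply_mem hW _ _
  obtain ⟨ψ, hψ⟩ := factor' x hW hxW
  have hφψ : φ' ≫ CommRingCat.ofHom (algebraMap A' K') = ψ ≫ CommRingCat.ofHom κ := by
    apply hom_eq hW
    rw [Spec.map_comp, Category.assoc, hφ', h₂, Spec.map_comp, Category.assoc, hψ]
  have hφψ' : ∀ c, algebraMap A' K' (φ'.hom c) = κ (ψ.hom c) := fun c => congr($(hφψ).hom c)
  have hint : ∀ c : Γ(Z, W), ∃ a : A, algebraMap A K a = ψ.hom c := by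
    intro c
    rcases ValuationRing.isInteger_or_isInteger A (ψ.hom c) with ⟨a, ha⟩ | ⟨a, ha⟩
    · exact ⟨a, ha⟩
    · by_cases hc : ψ.hom c = 0
      · exact ⟨0, by rw [map_zero, hc]⟩
      have e1 : φ'.hom c * ι a = 1 := by
        apply hinj'
        have e2 : algebraMap A' K' (ι a) = κ (algebraMap A K a) := (congr($hκ a)).symm
        rw [map_mul, hφψ', e2, ha, ← map_mul, mul_inv_cancel₀ hc, map_one, map_one]
      have e2 : IsUnit (ι a) := IsUnit.of_mul_eq_one (φ'.hom c) (by rw [mul_comm]; exact e1)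
      have e3 : IsUnit a := (isUnit_map_iff ι a).mp e2
      obtain ⟨b, hb⟩ := e3.exists_right_inv
      refine ⟨b, ?_⟩
      have e4 : algebraMap A K a * algebraMap A K b = 1 := by rw [← map_mul, hb, map_one]
      rw [ha] at e4
      have e5 : algebraMap A K b = ((ψ.hom c)⁻¹)⁻¹ := eq_inv_of_mul_eq_one_right e4
      rw [e5, inv_inv]
  choose φ₀ hφ₀ using hint
  let φ₁ : Γ(Z, W) →+* A :=
    { toFun := φ₀
      map_one' := hinj (by rw [hφ₀, map_one, map_one])
      map_mul' := fun x y => hinj (by rw [hφ₀, map_mul, map_mul, hφ₀, hφ₀])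
      map_zero' := hinj (by rw [hφ₀, map_zero, map_zero])
      map_add' := fun x y => hinj (by rw [hφ₀, map_add, map_add, hφ₀, hφ₀]) }
  let φ : Γ(Z, W) ⟶ CommRingCat.of A := CommRingCat.ofHom φ₁
  have hφ : φ ≫ CommRingCat.ofHom (algebraMap A K) = ψ := by
    ext c
    exact hφ₀ c
  have hφι : φ ≫ CommRingCat.ofHom ι = φ' := by
    ext c
    apply hinj'
    have e2 : algebraMap A' K' (ι (φ₀ c)) = κ (algebraMap A K (φ₀ c)) := (congr($hκ (φ₀ c))).symm
    change algebraMap A' K' (ι (φ₀ c)) = algebraMap A' K' (φ'.hom c)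
    rw [e2, hφ₀, hφψ']
  have hl₂ : Spec.map (CommRingCat.ofHom (algebraMap A K)) ≫ Spec.map φ ≫ hW.fromSpec = x := by
    rw [← Category.assoc, ← Spec.map_comp, hφ, hψ]
  have hl' : Spec.map (CommRingCat.ofHom ι) ≫ Spec.map φ ≫ hW.fromSpec = l' := by
    rw [← Category.assoc, ← Spec.map_comp, hφι, hφ']
  refine ⟨Spec.map φ ≫ hW.fromSpec, ?_, hl₂⟩
  -- equality of two maps `Spec A ⟶ D`
  have hcl : Spec.map (CommRingCat.ofHom ι) (closedPoint A') = closedPoint A :=
    IsLocalRing.comap_closedPoint ι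
  obtain ⟨V, hV, hyV, -⟩ := exists_isAffineOpen_mem_and_subset
    (U := (⊤ : D.Opens)) (x := y (closedPoint A)) trivial
  have hyV' : ((Spec.map φ ≫ hW.fromSpec) ≫ f) (closedPoint A) ∈ V := by
    have e1 : ((Spec.map φ ≫ hW.fromSpec) ≫ f) (closedPoint A) =
        (Spec.map (CommRingCat.ofHom ι) ≫ (Spec.map φ ≫ hW.fromSpec) ≫ f) (closedPoint A') := by
      rw [Scheme.Hom.comp_apply (Spec.map (CommRingCat.ofHom ι)), hcl]
    rw [e1, ← Category.assoc, hl', h₁, Scheme.Hom.comp_apply, hcl]
    exact hyV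
  obtain ⟨α, hα⟩ := factor' y hV hyV
  obtain ⟨β, hβ⟩ := factor' ((Spec.map φ ≫ hW.fromSpec) ≫ f) hV hyV'
  have hαβ : β ≫ CommRingCat.ofHom (algebraMap A K) = α ≫ CommRingCat.ofHom (algebraMap A K) := by
    apply hom_eq hV
    rw [Spec.map_comp, Category.assoc, hβ, ← Category.assoc, hl₂, hxy, Spec.map_comp, Category.assoc, hα]
  have hmono : Mono (CommRingCat.ofHom (algebraMap A K)) :=
    ConcreteCategory.mono_of_injective _ hinj
  rw [cancel_mono] at hαβ
  rw [← hβ, hαβ, hα]

/-- A nonempty étale scheme over the fraction field of a discrete valuation ring `A` has a point over the fraction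
field of a discrete valuation ring dominating `A`. -/
theorem exists_extension_of_etale {A : Type u} [CommRing A] [IsDomain A] [IsDiscreteValuationRing A]
    {K : Type u} [Field K] [Algebra A K] [IsFractionRing A K]
    {V : Scheme.{u}} (g : V ⟶ Spec (CommRingCat.of K)) [Etale g] (v : V) :
    ∃ (A' : Type u) (_ : CommRing A') (_ : IsDomain A') (_ : IsDiscreteValuationRing A')
      (ι : A →+* A') (κ : K →+* FractionRing A') (s : Spec (CommRingCat.of (FractionRing A')) ⟶ V),
      IsLocalHom ι ∧ κ.comp (algebraMap A K) = (algebraMap A' (FractionRing A')).comp ι ∧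
      s ≫ g = Spec.map (CommRingCat.ofHom κ) := by
  obtain ⟨L, iL, aL, fL, sL, s₀, hs₀⟩ := Pi1A.PicExtDvr.exists_point g v
  obtain ⟨A', iA, dA, vA, ι, ψ, hιloc, -, hψ⟩ := Pi1A.PicExtDvr.exists_extension (O := A) K L
  refine ⟨A', iA, dA, vA, ι, ψ.comp (algebraMap K L), Spec.map (CommRingCat.ofHom ψ) ≫ s₀, hιloc, ?_, ?_⟩
  · rw [RingHom.comp_assoc]
    exact hψ
  · rw [Category.assoc, hs₀, ← Spec.map_comp, ← CommRingCat.ofHom_comp]

end Groth.Agent.Ega3B.DvrDescent
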