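import Groth.Agent.Ega3B.LimInv2
import Groth.Agent.Etcore.FGLim

/-!
# The Picard group of a base change is the colimit over finitely generated subalgebras

* `bcD`, `bcC`, `isLimitBcC`: base change of a cofiltered diagram of `S`-schemes along `f : X ⟶ S`;
* `exists_fg_invertible`: `X → Spec R` qcqs, `B` an `R`-algebra, `L` invertible on `X_B`: `L` comes from `X_{B'}` for a finitely
  generated `R`-subalgebra `B'` of `B`;
* `exists_fg_iso`: the same for isomorphisms of invertible modules.
-/

set_option autoImplicit false
set_option backward.isDefEq.respectTransparency false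
set_option backward.defeqAttrib.useBackward true
universe u
open CategoryTheory Limits AlgebraicGeometry TopologicalSpace Opposite

namespace Groth.Agent.Ega3B.LimInv

section

variable {J : Type u} [SmallCategory J] (D : J ⥤ Scheme.{u}) {S X : Scheme.{u}}
  (s : D ⟶ (Functor.const J).obj S) (f : X ⟶ S)

/-- The base change of a diagram of `S`-schemes. -/
@[simps] noncomputable def bcD : J ⥤ Scheme.{u} where
  obj j := pullback f (s.app j)
  map {j k} a := pullback.lift (pullback.fst _ _) (pullback.snd _ _ ≫ D.map a) (by
    rw [pullback.condition, Category.assoc]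
    congr 1
    simp)
  map_id j := by
    apply pullback.hom_ext
    · simp
    · simp
  map_comp a b := by
    apply pullback.hom_ext
    · simp
    · simp

/-- The projections. -/
@[simps] noncomputable def bcDι : bcD D s f ⟶ D where
  app j := pullback.snd _ _
  naturality j k a := by simp

theorem isPullback_bcD_map {j k : J} (a : j ⟶ k) :
    IsPullback ((bcD D s f).map a) (pullback.snd f (s.app j)) (pullback.snd f (s.app k)) (D.map a) := by
  refine IsPullback.of_right (h₁₂ := pullback.fst f (s.app k)) (h₂₂ := s.app k)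
    (v₁₃ := f) ?_ (by simp) (IsPullback.of_hasPullback f (s.app k))
  have h : D.map a ≫ s.app k = s.app j := by simp
  have : (bcD D s f).map a ≫ pullback.fst f (s.app k) = pullback.fst f (s.app j) := by
    simp
  rw [this, h]
  exact IsPullback.of_hasPullback f (s.app j)

variable {D} (c : Cone D) {t : c.pt ⟶ S} (ht : ∀ j, c.π.app j ≫ s.app j = t) {X' : Scheme.{u}} {p : X' ⟶ X} {q : X' ⟶ c.pt}
  (h : IsPullback p q f t)

variable {s f}

/-- The base change of a cone of `S`-schemes. -/
@[simps] noncomputable def bcC : Cone (bcD D s f) where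
  pt := X'
  π :=
    { app j := pullback.lift p (q ≫ c.π.app j) (by rw [Category.assoc, ht, h.w])
      naturality j k a := by
        apply pullback.hom_ext
        · simp
        · simp }

attribute [local instance] IsCofiltered.isConnected

/-- The base change of a limit cone is a limit cone. -/
noncomputable def isLimitBcC [IsCofiltered J] (hc : IsLimit c) : IsLimit (bcC c ht h) :=
  isLimitOfIsPullbackOfIsConnected (bcDι D s f) (bcC c ht h) c
    { hom := q, w := fun j => by simp }
    (fun j => by
      dsimp
      refine IsPullback.of_right (h₁₂ := pullback.fst f (s.app j)) (h₂₂ := s.app j)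
        (v₁₃ := f) ?_ (by simp) (IsPullback.of_hasPullback f (s.app j))
      rw [pullback.lift_fst, ht]
      exact h)
    hc

theorem isAffineHom_bcD_map [∀ (i j : J) (f : i ⟶ j), IsAffineHom (D.map f)] {j k : J} (a : j ⟶ k) :
    IsAffineHom ((bcD D s f).map a) :=
  MorphismProperty.of_isPullback (P := @IsAffineHom) (isPullback_bcD_map D s f a).flip (by infer_instance)

theorem compactSpace_bcD_obj [QuasiCompact f] (j : J) [CompactSpace (D.obj j)] :
    CompactSpace ((bcD D s f).obj j) :=
  QuasiCompact.compactSpace_of_compactSpace (pullback.snd f (s.app j))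

theorem quasiSeparatedSpace_bcD_obj [QuasiSeparated f] (j : J) [QuasiSeparatedSpace (D.obj j)] :
    QuasiSeparatedSpace ((bcD D s f).obj j) :=
  quasiSeparatedSpace_of_quasiSeparated (pullback.snd f (s.app j))

include ht h in
/-- An invertible module on the base change of `f : X ⟶ S` (qcqs) to a limit comes from a stage. -/
theorem exists_invertible_bc [IsCofiltered J] (hc : IsLimit c) [∀ (i j : J) (f : i ⟶ j), IsAffineHom (D.map f)]
    [∀ j, CompactSpace (D.obj j)] [∀ j, QuasiSeparatedSpace (D.obj j)] [QuasiCompact f] [QuasiSeparated f]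
    {L : X'.Modules} (hL : PicF.IsInvertible L) :
    ∃ (j : J) (w : p ≫ f = (q ≫ c.π.app j) ≫ s.app j) (M : (pullback f (s.app j)).Modules), PicF.IsInvertible M ∧
      Nonempty ((Scheme.Modules.pullback (pullback.lift p (q ≫ c.π.app j) w)).obj M ≅ L) := by
  have h1 : ∀ {j k} (a : j ⟶ k), IsAffineHom ((bcD D s f).map a) := fun a => isAffineHom_bcD_map a
  have h2 : ∀ j, CompactSpace ((bcD D s f).obj j) := fun j => compactSpace_bcD_obj j
  have h3 : ∀ j, QuasiSeparatedSpace ((bcD D s f).obj j) := fun j => quasiSeparatedSpace_bcD_obj j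
  obtain ⟨j, M, hM, e⟩ := exists_invertible (bcD D s f) (bcC c ht h) (isLimitBcC c ht h hc) hL
  exact ⟨j, by rw [Category.assoc, ht, h.w], M, hM, e⟩

include ht h in
/-- Invertible modules at a stage which become isomorphic on the base change to the limit become isomorphic at a
later stage. -/
theorem exists_iso_bc [IsCofiltered J] (hc : IsLimit c) [∀ (i j : J) (f : i ⟶ j), IsAffineHom (D.map f)]
    [∀ j, CompactSpace (D.obj j)] [∀ j, QuasiSeparatedSpace (D.obj j)] [QuasiCompact f] [QuasiSeparated f]
    {j : J} (w : p ≫ f = (q ≫ c.π.app j) ≫ s.app j)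
    {M N : (pullback f (s.app j)).Modules} (hM : PicF.IsInvertible M) (hN : PicF.IsInvertible N)
    (e : Nonempty ((Scheme.Modules.pullback (pullback.lift p (q ≫ c.π.app j) w)).obj M ≅
      (Scheme.Modules.pullback (pullback.lift p (q ≫ c.π.app j) w)).obj N)) :
    ∃ (k : J) (a : k ⟶ j) (w' : pullback.fst f (s.app k) ≫ f = (pullback.snd f (s.app k) ≫ D.map a) ≫ s.app j),
      Nonempty ((Scheme.Modules.pullback (pullback.lift (pullback.fst f (s.app k))
        (pullback.snd f (s.app k) ≫ D.map a) w')).obj M ≅
      (Scheme.Modules.pullback (pullback.lift (pullback.fst f (s.app k))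
        (pullback.snd f (s.app k) ≫ D.map a) w')).obj N) := by
  have h1 : ∀ {j k} (a : j ⟶ k), IsAffineHom ((bcD D s f).map a) := fun a => isAffineHom_bcD_map a
  have h2 : ∀ j, CompactSpace ((bcD D s f).obj j) := fun j => compactSpace_bcD_obj j
  have h3 : ∀ j, QuasiSeparatedSpace ((bcD D s f).obj j) := fun j => quasiSeparatedSpace_bcD_obj j
  obtain ⟨k, a, e'⟩ := exists_iso (bcD D s f) (bcC c ht h) (isLimitBcC c ht h hc) hM hN e
  exact ⟨k, a, by simp [pullback.condition], e'⟩

end

section FG

open Groth.Agent.Etcore.FGLim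

variable (R B : Type u) [CommRing R] [CommRing B] [Algebra R B]

/-- Spectra of finitely generated subalgebras. -/
noncomputable def fgD : (FGSub R B)ᵒᵖ ⥤ Scheme.{u} := (fgSys R B).op ⋙ Scheme.Spec

/-- The cone with vertex `Spec B`. -/
noncomputable def fgC : Cone (fgD R B) := Scheme.Spec.mapCone (fgCocone R B).op

/-- `Spec B` is the limit of the spectra of finitely generated subalgebras. -/
noncomputable def isLimitFgC : IsLimit (fgC R B) :=
  isLimitOfPreserves Scheme.Spec (isColimitFG R B).op

/-- The structure morphisms. -/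
noncomputable def fgS : fgD R B ⟶ (Functor.const _).obj (Spec (CommRingCat.of R)) where
  app j := Spec.map (CommRingCat.ofHom (algebraMap R j.unop.1))
  naturality j k a := by
    change Spec.map _ ≫ Spec.map _ = Spec.map _ ≫ 𝟙 _
    rw [← Spec.map_comp, Category.comp_id]
    rfl

instance (j : (FGSub R B)ᵒᵖ) : IsAffine ((fgD R B).obj j) :=
  inferInstanceAs (IsAffine (Spec (CommRingCat.of j.unop.1)))

variable {R B}
variable {X : Scheme.{u}} (f : X ⟶ Spec (CommRingCat.of R)) [QuasiCompact f] [QuasiSeparated f] {X' : Scheme.{u}}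
  {p : X' ⟶ X} {q : X' ⟶ Spec (CommRingCat.of B)}
  (h : IsPullback p q f (Spec.map (CommRingCat.ofHom (algebraMap R B))))

include h in
/-- `X → Spec R` qcqs, `B` an `R`-algebra, `L` an invertible module on `X_B`: `L` comes from `X_{B'}` for some finitely
generated subalgebra `B'` of `B`. -/
theorem exists_fg_invertible {L : X'.Modules} (hL : PicF.IsInvertible L) :
    ∃ (B' : Subalgebra R B) (_ : B'.FG) (w : p ≫ f = (q ≫ Spec.map (CommRingCat.ofHom B'.val.toRingHom)) ≫
        Spec.map (CommRingCat.ofHom (algebraMap R B')))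
      (M : (pullback f (Spec.map (CommRingCat.ofHom (algebraMap R B')))).Modules), PicF.IsInvertible M ∧
      Nonempty ((Scheme.Modules.pullback (pullback.lift p (q ≫ Spec.map (CommRingCat.ofHom B'.val.toRingHom)) w)).obj M
        ≅ L) := by
  obtain ⟨j, w, M, hM, e⟩ := exists_invertible_bc (D := fgD R B) (s := fgS R B) (f := f) (c := fgC R B)
    (t := Spec.map (CommRingCat.ofHom (algebraMap R B))) (fun j => by
      change Spec.map _ ≫ Spec.map _ = _
      rw [← Spec.map_comp]
      rfl) (p := p) (q := q) h (isLimitFgC R B) hL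
  exact ⟨j.unop.1, j.unop.2, w, M, hM, e⟩

include h in
/-- Invertible modules on `X_{B'}` which become isomorphic on `X_B` become isomorphic on `X_{B''}` for some finitely
generated subalgebra `B' ≤ B''` of `B`. -/
theorem exists_fg_iso (B' : Subalgebra R B) (hB' : B'.FG)
    (w : p ≫ f = (q ≫ Spec.map (CommRingCat.ofHom B'.val.toRingHom)) ≫
        Spec.map (CommRingCat.ofHom (algebraMap R B')))
    {M N : (pullback f (Spec.map (CommRingCat.ofHom (algebraMap R B')))).Modules} (hM : PicF.IsInvertible M)
    (hN : PicF.IsInvertible N)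
    (e : Nonempty ((Scheme.Modules.pullback (pullback.lift p (q ≫ Spec.map (CommRingCat.ofHom B'.val.toRingHom)) w)).obj
      M ≅ (Scheme.Modules.pullback (pullback.lift p (q ≫ Spec.map (CommRingCat.ofHom B'.val.toRingHom)) w)).obj N)) :
    ∃ (B'' : Subalgebra R B) (_ : B''.FG) (hle : B' ≤ B'')
      (w' : pullback.fst f (Spec.map (CommRingCat.ofHom (algebraMap R B''))) ≫ f =
        (pullback.snd f (Spec.map (CommRingCat.ofHom (algebraMap R B''))) ≫
          Spec.map (CommRingCat.ofHom (Subalgebra.inclusion hle).toRingHom)) ≫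
        Spec.map (CommRingCat.ofHom (algebraMap R B'))),
      Nonempty ((Scheme.Modules.pullback (pullback.lift (pullback.fst f _)
        (pullback.snd f _ ≫ Spec.map (CommRingCat.ofHom (Subalgebra.inclusion hle).toRingHom)) w')).obj M ≅
      (Scheme.Modules.pullback (pullback.lift (pullback.fst f _)
        (pullback.snd f _ ≫ Spec.map (CommRingCat.ofHom (Subalgebra.inclusion hle).toRingHom)) w')).obj N) := by
  obtain ⟨k, a, w', e'⟩ := exists_iso_bc (D := fgD R B) (s := fgS R B) (f := f) (c := fgC R B)
    (t := Spec.map (CommRingCat.ofHom (algebraMap R B))) (fun j => by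
      change Spec.map _ ≫ Spec.map _ = _
      rw [← Spec.map_comp]
      rfl) (p := p) (q := q) h (isLimitFgC R B) (j := op ⟨B', hB'⟩) w hM hN e
  exact ⟨k.unop.1, k.unop.2, leOfHom a.unop, w', e'⟩

end FG

end Groth.Agent.Ega3B.LimInv
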